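import Mathlib
import Groth.Prelude.Def_DCoh3
import Groth.Agent.S0922
import Groth.Agent.Lib.Helper5.Perf.RpushOpen
import Groth.Agent.Lib.Helper5.Perf.PerfIff
import Groth.Agent.Lib.Helper5.Misc.DerFaithful
import Groth.Agent.Lib.Helper5.TildePC.Main

/-!
# Transport of `Rf_*` and pseudo-coherence along isomorphisms of schemes (helper5)
-/
set_option autoImplicit false
set_option linter.style.haveILetI false
universe u
open CategoryTheory CategoryTheory.Limits AlgebraicGeometry Opposite TopologicalSpace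

attribute [local instance] HasDerivedCategory.standard

namespace Groth.Agent.Lib.Helper5.IsoSq

open Groth.Agent.Lib.Helper5.PerfTri Groth.Agent.Lib.Helper5.PCApprox
  Groth.Agent.Lib.Helper5.PCBiprod Groth.Agent.Lib.Helper5.PCTri
  Groth.Agent.Lib.Helper5.DerFaithful Groth.Agent.Lib.Helper5.RpushOpen
  Groth.Agent.Helper3.KInjDer

variable {X X' : Scheme.{u}}

/-- restriction along `β.inv` followed by restriction along `β.hom` -/
noncomputable def resInvHom (β : X ≅ X') :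
    Scheme.Modules.restrictFunctor β.inv ⋙ Scheme.Modules.restrictFunctor β.hom ≅ 𝟭 X.Modules :=
  (Scheme.Modules.restrictFunctorComp β.hom β.inv).symm ≪≫
    Scheme.Modules.restrictFunctorCongr β.hom_inv_id ≪≫ Scheme.Modules.restrictFunctorId

/-- the same on derived categories -/
noncomputable def restrictDInvHom (β : X ≅ X') :
    DCoh.restrictD β.inv ⋙ DCoh.restrictD β.hom ≅ 𝟭 (DCoh.D X) :=
  mapDerivedCategoryCompIso _ _ (resInvHom β)

/-- the other composite on derived categories -/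
noncomputable def restrictDHomInv (β : X ≅ X') :
    DCoh.restrictD β.hom ⋙ DCoh.restrictD β.inv ≅ 𝟭 (DCoh.D X') :=
  mapDerivedCategoryCompIso _ _ (resInvHom β.symm)

/-- `Rβ_* ≅ (β⁻¹)^*` objectwise, for an isomorphism `β` -/
theorem nonempty_rpush_iso_restrictD_inv (β : X ≅ X') [DCoh.HasRpush β.hom] (E : DCoh.D X) :
    Nonempty ((DCoh.Rpush β.hom).obj E ≅ (DCoh.restrictD β.inv).obj E) := by
  obtain ⟨e⟩ := nonempty_restrictD_rpush_iso β.hom E
  exact ⟨((restrictDHomInv β).app _).symm ≪≫ (DCoh.restrictD β.inv).mapIso e⟩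

/-- `Rf_*` along equal morphisms -/
theorem nonempty_rpush_congr {Y : Scheme.{u}} {f f' : X ⟶ Y} (h : f = f') [DCoh.HasRpush f]
    [DCoh.HasRpush f'] (E : DCoh.D X) :
    Nonempty ((DCoh.Rpush f).obj E ≅ (DCoh.Rpush f').obj E) := by
  subst h
  exact ⟨Iso.refl _⟩

/-- **`Rg_*` and transport along isomorphisms**: for a commutative square with horizontal
isomorphisms `α`, `β`, one has `(β⁻¹)^* Rg₁_* K ≅ Rg₂_* (α⁻¹)^* K`. -/
theorem nonempty_restrictD_rpush_sq {X₁ X₂ Y₁ Y₂ : Scheme.{u}} (α : X₁ ≅ X₂) (β : Y₁ ≅ Y₂)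
    (g₁ : X₁ ⟶ Y₁) (g₂ : X₂ ⟶ Y₂) (h : α.hom ≫ g₂ = g₁ ≫ β.hom)
    [DCoh.HasRpush g₁] [DCoh.HasRpush g₂] (K : DCoh.D X₁) :
    Nonempty ((DCoh.restrictD β.inv).obj ((DCoh.Rpush g₁).obj K) ≅
      (DCoh.Rpush g₂).obj ((DCoh.restrictD α.inv).obj K)) := by
  haveI : DCoh.HasRpush α.hom := hasRightDerivedFunctor (DCoh.pushKh α.hom)
  haveI : DCoh.HasRpush β.hom := hasRightDerivedFunctor (DCoh.pushKh β.hom)
  haveI : DCoh.HasRpush (g₁ ≫ β.hom) := hasRightDerivedFunctor (DCoh.pushKh (g₁ ≫ β.hom))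
  haveI : DCoh.HasRpush (α.hom ≫ g₂) := hasRightDerivedFunctor (DCoh.pushKh (α.hom ≫ g₂))
  obtain ⟨e1⟩ := nonempty_rpush_iso_restrictD_inv β ((DCoh.Rpush g₁).obj K)
  obtain ⟨e2⟩ := Groth.Agent.S0922.result g₁ β.hom
  obtain ⟨e3⟩ := nonempty_rpush_congr h.symm K
  obtain ⟨e4⟩ := Groth.Agent.S0922.result α.hom g₂
  obtain ⟨e5⟩ := nonempty_rpush_iso_restrictD_inv α K
  exact ⟨e1.symm ≪≫ e2.app K ≪≫ e3 ≪≫ (e4.app K).symm ≪≫ (DCoh.Rpush g₂).mapIso e5⟩

/-- pseudo-coherence is preserved by restriction along an open immersion -/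
theorem isPC_restrictD {U : Scheme.{u}} (j : U ⟶ X) [IsOpenImmersion j] {m : ℤ} {K : DCoh.D X}
    (hK : DCoh.IsPseudoCoherentD m K) : DCoh.IsPseudoCoherentD m ((DCoh.restrictD j).obj K) := by
  apply isPC_of_approx
  intro u
  obtain ⟨W, hxW, hW⟩ := exists_approx_of_isPC hK (j.base u)
  have h1 : Approx m ((DCoh.restrictD ((j ∣_ W) ≫ W.ι)).obj K) := approx_comp (j ∣_ W) W.ι hW
  have h2 : Approx m ((DCoh.restrictD ((j ⁻¹ᵁ W).ι ≫ j)).obj K) :=
    approx_congr (morphismRestrict_ι j W) h1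
  refine ⟨_, (j ⁻¹ᵁ W).ι, inferInstance, ⟨⟨u, hxW⟩, rfl⟩, ?_⟩
  exact h2.of_iso (restrictDCompObjIso (j ⁻¹ᵁ W).ι j K)

/-- pseudo-coherence can be tested after transport along an isomorphism -/
theorem isPC_restrictD_inv_iff (β : X ≅ X') (m : ℤ) (K : DCoh.D X) :
    DCoh.IsPseudoCoherentD m ((DCoh.restrictD β.inv).obj K) ↔ DCoh.IsPseudoCoherentD m K :=
  ⟨fun h => isPC_of_iso ((restrictDInvHom β).app K) (isPC_restrictD β.hom h),
    fun h => isPC_restrictD β.inv h⟩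

end Groth.Agent.Lib.Helper5.IsoSq
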