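import Mathlib
import Groth.Prelude.Def_DCoh3
import Groth.Prelude.Def_DRing2
import Groth.Agent.S6940
import Groth.Agent.S2066
import Groth.Agent.Lib.Helper5.FinPC.IsoSq
import Groth.Agent.Lib.Helper5.QC.TildePush
import Groth.Agent.Lib.Helper5.QC.SpecMain
import Groth.Agent.Lib.Helper5.QC.RpushQC
import Groth.Agent.Lib.Helper5.Perf.HomVanish
import Groth.Agent.Lib.Helper1.IdealModL

/-!
# Pseudo-coherence and `Rf_*` for a finite morphism (helper5)
-/
set_option autoImplicit false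
set_option linter.style.haveILetI false
universe u
open CategoryTheory CategoryTheory.Limits AlgebraicGeometry Opposite TopologicalSpace

attribute [local instance] HasDerivedCategory.standard

namespace Groth.Agent.Lib.Helper5.FinPush

open Groth.Agent.Lib.Helper5.PerfTri Groth.Agent.Lib.Helper5.PCApprox
  Groth.Agent.Lib.Helper5.PCBiprod Groth.Agent.Lib.Helper5.PCTri
  Groth.Agent.Lib.Helper5.IsoSq Groth.Agent.Lib.Helper5.RpushRes
  Groth.Agent.Helper3.KInjDer Groth.Agent.Lib.Helper5.QC Groth.Agent.Lib.Helper5.TildePC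
  Groth.Agent.Lib.Helper5.PerfIff Groth.Agent.Helper1

theorem isPC_iff_of_iso {X : Scheme.{u}} {m : ℤ} {K K' : DCoh.D X} (e : K ≅ K') :
    DCoh.IsPseudoCoherentD m K ↔ DCoh.IsPseudoCoherentD m K' :=
  ⟨isPC_of_iso e, isPC_of_iso e.symm⟩

/-- **affine computation of `Rg_*`**: if `K` on the affine scheme `X'` corresponds to `N`, then
`Rg_* K` on the affine scheme `Y'` corresponds to `N` with restricted scalars. -/
theorem nonempty_affine_rpush {X' Y' : Scheme.{u}} [IsAffine X'] [IsAffine Y'] (g : X' ⟶ Y')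
    [DCoh.HasRpush g] (K : DCoh.D X') (N : DerivedCategory (ModuleCat.{u} Γ(X', ⊤)))
    (e : (DCoh.tildeD Γ(X', ⊤)).obj N ≅ (DCoh.restrictD X'.isoSpec.inv).obj K) :
    Nonempty ((DCoh.restrictD Y'.isoSpec.inv).obj ((DCoh.Rpush g).obj K) ≅
      (DCoh.tildeD Γ(Y', ⊤)).obj
        ((ModuleCat.restrictScalars g.appTop.hom).mapDerivedCategory.obj N)) := by
  haveI : DCoh.HasRpush (Spec.map g.appTop) := hasRightDerivedFunctor (DCoh.pushKh _)
  obtain ⟨e1⟩ := nonempty_restrictD_rpush_sq X'.isoSpec Y'.isoSpec g (Spec.map g.appTop)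
    (Scheme.isoSpec_hom_naturality g) K
  exact ⟨e1 ≪≫ (DCoh.Rpush (Spec.map g.appTop)).mapIso e.symm ≪≫ (tildeRpushIso g.appTop).app N⟩

/-- pseudo-coherence of `K` and of `Rg_* K` in terms of the corresponding complex of modules -/
theorem key_affine {X' Y' : Scheme.{u}} [IsAffine X'] [IsAffine Y'] (g : X' ⟶ Y')
    [DCoh.HasRpush g] (K : DCoh.D X') (N : DerivedCategory (ModuleCat.{u} Γ(X', ⊤)))
    (e : (DCoh.tildeD Γ(X', ⊤)).obj N ≅ (DCoh.restrictD X'.isoSpec.inv).obj K) (m : ℤ) :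
    (DCoh.IsPseudoCoherentD m K ↔ DRing.IsPseudoCoherent Γ(X', ⊤) m N) ∧
      (DCoh.IsPseudoCoherentD m ((DCoh.Rpush g).obj K) ↔ DRing.IsPseudoCoherent Γ(Y', ⊤) m
        ((ModuleCat.restrictScalars g.appTop.hom).mapDerivedCategory.obj N)) := by
  obtain ⟨e'⟩ := nonempty_affine_rpush g K N e
  exact ⟨(isPC_restrictD_inv_iff X'.isoSpec m K).symm.trans ((isPC_iff_of_iso e.symm).trans
      (isPseudoCoherentD_tildeD_iff Γ(X', ⊤) N m)),
    (isPC_restrictD_inv_iff Y'.isoSpec m _).symm.trans ((isPC_iff_of_iso e').trans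
      (isPseudoCoherentD_tildeD_iff Γ(Y', ⊤) _ m))⟩

/-- `Ra_* (M[0]) ≅ (a_* M)[0]` for `a` affine and `M` quasi-coherent -/
theorem nonempty_rpush_inD {X S : Scheme.{u}} (a : X ⟶ S) [IsAffineHom a] [DCoh.HasRpush a]
    (M : X.Modules) [M.IsQuasicoherent] :
    Nonempty ((DCoh.Rpush a).obj (DCoh.inD X M) ≅
      DCoh.inD S ((Scheme.Modules.pushforward a).obj M)) := by
  let E : CochainComplex X.Modules ℤ :=
    (HomologicalComplex.single X.Modules (ComplexShape.up ℤ) 0).obj M
  have hE : ∀ i, (E.X i).IsQuasicoherent := by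
    intro i
    by_cases hi : i = 0
    · subst hi
      exact QcAbel.isQuasicoherent_of_iso
        (HomologicalComplex.singleObjXSelf (ComplexShape.up ℤ) 0 M).symm
    · exact QcAbel.isQuasicoherent_of_isZero
        (HomologicalComplex.isZero_single_obj_X (ComplexShape.up ℤ) 0 M i hi)
  obtain ⟨e⟩ := nonempty_rpush_iso_pushC a E hE
  exact ⟨(DCoh.Rpush a).mapIso ((DerivedCategory.singleFunctorIsoCompQ X.Modules 0).app M) ≪≫ e ≪≫
    DerivedCategory.Q.mapIso ((HomologicalComplex.singleMapHomologicalComplex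
      (Scheme.Modules.pushforward a) (ComplexShape.up ℤ) 0).app M) ≪≫
    ((DerivedCategory.singleFunctorIsoCompQ S.Modules 0).app _).symm⟩

/-- restriction of the structure sheaf along an open immersion, in the derived category -/
noncomputable def restrictDUnitIso {U X : Scheme.{u}} (j : U ⟶ X) [IsOpenImmersion j] :
    (DCoh.restrictD j).obj (DCoh.inD X (Coh.structureModule X)) ≅
      DCoh.inD U (Coh.structureModule U) :=
  ((Scheme.Modules.restrictFunctor j).mapDerivedCategorySingleFunctor 0).app _ ≪≫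
    (DerivedCategory.singleFunctor _ 0).mapIso (Scheme.Modules.restrictUnitIso j)

/-- `R^~ ≅ O` in the derived category -/
noncomputable def tildeDUnitIso (R : CommRingCat.{u}) :
    (DCoh.tildeD R).obj ((DerivedCategory.singleFunctor (ModuleCat.{u} R) 0).obj
      (ModuleCat.of R R)) ≅
      DCoh.inD (Spec (CommRingCat.of R)) (Coh.structureModule _) :=
  ((tilde.functor R).mapDerivedCategorySingleFunctor 0).app _ ≪≫
    (DerivedCategory.singleFunctor _ 0).mapIso tildeSelf

/-- for `g` an affine morphism of affine schemes with `g_* O` pseudo-coherent, the ring of the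
source is a pseudo-coherent module over the ring of the target -/
theorem isPseudoCoherentModule'_of_push {X' Y' : Scheme.{u}} [IsAffine X'] [IsAffine Y']
    (g : X' ⟶ Y') [IsAffineHom g] [DCoh.HasRpush g]
    (hO : ∀ m : ℤ, DCoh.IsPseudoCoherentD m (DCoh.inD Y'
      ((Scheme.Modules.pushforward g).obj (Coh.structureModule X')))) :
    letI : Algebra Γ(Y', ⊤) Γ(X', ⊤) := g.appTop.hom.toAlgebra
    DRing.IsPseudoCoherentModule' Γ(Y', ⊤) Γ(X', ⊤) := by
  letI : Algebra Γ(Y', ⊤) Γ(X', ⊤) := g.appTop.hom.toAlgebra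
  apply (Groth.Agent.S2066.result _).1.1
  intro m
  haveI := Groth.Agent.Helper1.IdealModL.isQuasicoherent_structureModule (X := X')
  obtain ⟨e1⟩ := nonempty_rpush_inD g (Coh.structureModule X')
  have h1 := (key_affine g (DCoh.inD X' (Coh.structureModule X')) _
    (tildeDUnitIso Γ(X', ⊤) ≪≫ (restrictDUnitIso X'.isoSpec.inv).symm) m).2.1
    (isPC_of_iso e1.symm (hO m))
  exact isPseudoCoherent_of_iso
    (((ModuleCat.restrictScalars g.appTop.hom).mapDerivedCategorySingleFunctor 0).app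
      (ModuleCat.of Γ(X', ⊤) Γ(X', ⊤))) h1

/-- the affine case: for `g` an affine morphism of affine schemes with `g_* O` pseudo-coherent and
`K` in `D_QCoh`, `K` is `m`-pseudo-coherent iff `Rg_* K` is -/
theorem isPC_rpush_iff_affine {X' Y' : Scheme.{u}} [IsAffine X'] [IsAffine Y']
    (g : X' ⟶ Y') [IsAffineHom g] [DCoh.HasRpush g]
    (hO : ∀ m : ℤ, DCoh.IsPseudoCoherentD m (DCoh.inD Y'
      ((Scheme.Modules.pushforward g).obj (Coh.structureModule X'))))
    (K : DCoh.D X') (hK : DCoh.IsQCohD K) (m : ℤ) :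
    DCoh.IsPseudoCoherentD m K ↔ DCoh.IsPseudoCoherentD m ((DCoh.Rpush g).obj K) := by
  letI : Algebra Γ(Y', ⊤) Γ(X', ⊤) := g.appTop.hom.toAlgebra
  have hB : DRing.IsPseudoCoherentModule' Γ(Y', ⊤) Γ(X', ⊤) := isPseudoCoherentModule'_of_push g hO
  obtain ⟨N, ⟨e⟩⟩ := ((tildeD_main Γ(X', ⊤)).2.2 ((DCoh.restrictD X'.isoSpec.inv).obj K)).1
    (Groth.Agent.Lib.Helper5.HomVanish.isQCohD_restrictJ X'.isoSpec.inv K hK)
  have h1 := key_affine g K N e m
  exact h1.1.trans (((Groth.Agent.S6940.result hB N m).1).trans h1.2.symm)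

/-- **finite morphisms and pseudo-coherence**: for `f` affine with `f_* O_X` pseudo-coherent and
`E` in `D_QCoh(X)`, `E` is `m`-pseudo-coherent iff `Rf_* E` is. -/
theorem isPC_rpush_iff {X Y : Scheme.{u}} (f : X ⟶ Y) [IsAffineHom f] [DCoh.HasRpush f]
    (hO : ∀ m : ℤ, DCoh.IsPseudoCoherentD m (DCoh.inD Y
      ((Scheme.Modules.pushforward f).obj (Coh.structureModule X))))
    (E : DCoh.D X) (hE : DCoh.IsQCohD E) (m : ℤ) :
    DCoh.IsPseudoCoherentD m E ↔ DCoh.IsPseudoCoherentD m ((DCoh.Rpush f).obj E) := by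
  have key : ∀ V : Y.Opens, IsAffineOpen V →
      (DCoh.IsPseudoCoherentD m ((DCoh.restrictD (f ⁻¹ᵁ V).ι).obj E) ↔
        DCoh.IsPseudoCoherentD m ((DCoh.restrictD V.ι).obj ((DCoh.Rpush f).obj E))) := by
    intro V hV
    haveI : IsAffine (V : Scheme.{u}) := hV
    haveI : IsAffine ((f ⁻¹ᵁ V : X.Opens) : Scheme.{u}) := hV.preimage f
    haveI : DCoh.HasRpush (f ∣_ V) := hasRightDerivedFunctor (DCoh.pushKh (f ∣_ V))
    have hO' : ∀ m : ℤ, DCoh.IsPseudoCoherentD m (DCoh.inD (V : Scheme.{u})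
        ((Scheme.Modules.pushforward (f ∣_ V)).obj
          (Coh.structureModule ((f ⁻¹ᵁ V : X.Opens) : Scheme.{u})))) := by
      intro m'
      have h1 := isPC_restrict (hO m') V
      refine isPC_of_iso (((Scheme.Modules.restrictFunctor V.ι).mapDerivedCategorySingleFunctor
        0).app _ ≪≫ (DerivedCategory.singleFunctor _ 0).mapIso
          ((pushRestrictIso f V).app _ ≪≫ (Scheme.Modules.pushforward (f ∣_ V)).mapIso
            (Scheme.Modules.restrictUnitIso (f ⁻¹ᵁ V).ι))) h1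
    have h2 := isPC_rpush_iff_affine (f ∣_ V) hO' ((DCoh.restrictD (f ⁻¹ᵁ V).ι).obj E)
      (isQCohD_restrictD _ E hE) m
    exact h2.trans (isPC_iff_of_iso ((rpushRestrictIso f V).app E).symm)
  constructor
  · intro h
    apply isPC_local
    intro y
    obtain ⟨_, ⟨V, hV, rfl⟩, hyV, -⟩ :=
      Y.isBasis_affineOpens.exists_subset_of_mem_open (Set.mem_univ y) isOpen_univ
    exact ⟨V, hyV, (key V hV).1 (isPC_restrict h _)⟩
  · intro h
    apply isPC_local
    intro x
    obtain ⟨_, ⟨V, hV, rfl⟩, hyV, -⟩ :=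
      Y.isBasis_affineOpens.exists_subset_of_mem_open (Set.mem_univ (f.base x)) isOpen_univ
    exact ⟨f ⁻¹ᵁ V, hyV, (key V hV).2 (isPC_restrict h _)⟩

end Groth.Agent.Lib.Helper5.FinPush
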